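import Groth.Agent.StFib.FpqcTors.Mor
import Groth.Agent.StFib.FpqcTors.Obj
import Groth.Agent.StFib.FpqcTors.Rep
import Groth.Agent.StFib.SpTorsorSpace

/-!
# Quotient stacks by affine flat group schemes of finite presentation are stacks for the fpqc topology
-/

set_option linter.unusedVariables false
set_option backward.isDefEq.respectTransparency false
set_option backward.isDefEq.respectTransparency.types false
set_option maxHeartbeats 1600000

universe u

open CategoryTheory CategoryTheory.Limits AlgebraicGeometry Opposite MonoidalCategory CartesianMonoidalCategory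
  MonObj FibCat

namespace Groth.Agent.StFib.FpqcTors

open QuotBr (toH actH hS hSTerminal)
open SpTors (piA secSieve)

variable {S : Scheme.{u}} {G X : Over S} [GrpObj G] {aX : AlgGrp.Action G X}

local notation "K" => Scheme.fppfPrecoverage

instance shv_toH (T : Over S) : Shv ((toH S).obj T).left := inferInstanceAs (Shv ((AlgSp.yon S).obj T))

theorem shv_torsor [IsAffineHom G.hom] (A : AlgSt.SpQuotObj K ((toH S).obj G) (actH aX)) : Shv A.P.left := by
  obtain ⟨P, ⟨i⟩⟩ := QuotBr.exists_rep A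
  exact shv_of_iso (X := ((toH S).obj P).left) ((Over.forget _).mapIso i)

variable {U : Over S} {R : Sieve U} (Φ : Stk.sieveCat R ⥤ᵇ AlgSt.SpQuotSt K ((toH S).obj G) (actH aX))
  {P : AlgSp.Sp S} (π : P ⟶ (AlgSp.yon S).obj U) (inc : ∀ a, (Φ.obj a).P.left ⟶ P)
  (sq : ∀ a, IsPullback (inc a) (piA Φ a) π ((AlgSp.yon S).map a.obj.hom))

include sq

/-- The square of a member, over its own base. -/
theorem sq_base (a : (Stk.sieveCat R).obj) : IsPullback (inc a) (Φ.obj a).π.left π
    ((AlgSp.yon S).map (eqToHom (Φ.w_obj a) ≫ a.obj.hom)) :=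
  (sq a).of_iso (Iso.refl _) (Iso.refl _) ((AlgSp.yon S).mapIso (eqToIso (Φ.w_obj a).symm)) (Iso.refl _)
    (by simp) (by simp [piA, eqToHom_map]) (by simp) (by simp [eqToHom_map])

theorem isAffineMor_glued [IsAffineHom G.hom] [Shv P] (hR : R ∈ Jq S U) : AlgSp.IsAffineMor π := by
  refine isAffineMor_of_local π hR fun W hW f hf => ?_
  let a : (Stk.sieveCat R).obj := ⟨Over.mk f, hf⟩
  have hA := SpTors.prop_torsor good_affine.bc QuotBr.fppfLocal_affine QuotBr.isAlgSpace_hS
    (QuotBr.isAlgSpace_toH G) QuotBr.isAffineMor_hom (Φ.obj a)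
  obtain ⟨Xc, w, r, hr, hXc⟩ := hA hW ((AlgSp.yon S).map (eqToHom (Φ.w_obj a).symm : W ⟶ (Φ.obj a).base))
  refine ⟨Xc, w, r ≫ inc a, hXc, ?_⟩
  have h := hr.paste_horiz (sq_base Φ π inc sq a)
  rw [← Functor.map_comp, eqToHom_trans_assoc, eqToHom_refl, Category.id_comp] at h
  exact h

theorem secSieve_mem_q (hR : R ∈ Jq S U) : secSieve π ∈ Jq S U := by
  refine (Jq S).transitive hR _ fun V f hf => ?_
  let a : (Stk.sieveCat R).obj := ⟨Over.mk f, hf⟩
  refine GrothendieckTopology.superset_covering _ ?_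
    ((Jq S).pullback_stable (eqToHom (Φ.w_obj a).symm : V ⟶ (Φ.obj a).base)
      (J_le _ ((SpTors.hasSecLoc_iff _).1 (Φ.obj a).loc)))
  rintro W g ⟨s, hs⟩
  refine ⟨s ≫ inc a, ?_⟩
  rw [Category.assoc, (sq_base Φ π inc sq a).w, reassoc_of% hs, ← Functor.map_comp, Category.assoc,
    eqToHom_trans_assoc, eqToHom_refl]
  exact congrArg (AlgSp.yon S).map (congrArg (g ≫ ·) (Category.id_comp f))

theorem property_glued (Q : MorphismProperty Scheme.{u}) [Q.IsStableUnderBaseChange] [IsZariskiLocalAtTarget Q]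
    [Q.DescendsAlong AlgSpCov.Fpqc] (hG : Q G.hom) (hR : R ∈ Jq S U) {W : Over S} (w : W ⟶ U)
    (i : (AlgSp.yon S).obj W ≅ P) (hi : i.hom ≫ π = (AlgSp.yon S).map w) : Q w.left := by
  have h : Sieve.overEquiv U (secSieve π ⊓ R) ∈ Scheme.fpqcPrecoverage.toGrothendieck U.left :=
    (Jq S).intersection_covering (secSieve_mem_q Φ π inc sq hR) hR
  obtain ⟨C, hC, hle⟩ := Precoverage.mem_toGrothendieck_iff_of_isStableUnderComposition.1 h
  refine GITLib.of_fpqc_cover w.left hC fun S' f hf => ?_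
  let f' : Over.mk (f ≫ U.hom) ⟶ U := Over.homMk f rfl
  obtain ⟨⟨s, hs⟩, hfR⟩ := (Sieve.overEquiv_iff _ _).1 (hle _ _ hf)
  let a : (Stk.sieveCat R).obj := ⟨Over.mk f', hfR⟩
  let k : Over.mk (f ≫ U.hom) ⟶ (Φ.obj a).base := eqToHom (Φ.w_obj a).symm
  have hk : k ≫ eqToHom (Φ.w_obj a) ≫ a.obj.hom = f' := by
    rw [eqToHom_trans_assoc, eqToHom_refl, Category.id_comp]; rfl
  obtain ⟨l, -, hl⟩ := (sq_base Φ π inc sq a).exists_lift s ((AlgSp.yon S).map k)
    (hs.trans ((congrArg (AlgSp.yon S).map hk).symm.trans ((AlgSp.yon S).map_comp _ _)))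
  obtain ⟨top, hsq⟩ := SpTors.exists_section_sq (Φ.obj a) k l hl
  let gh : G ⟶ Over.mk (𝟙 S) := Over.homMk G.hom (Category.comp_id _)
  let vh : Over.mk (f ≫ U.hom) ⟶ Over.mk (𝟙 S) := Over.homMk (f ≫ U.hom) (Category.comp_id _)
  have s0 := IsPullback.of_hasPullback gh vh
  have sG := s0.map (AlgSp.yon S)
  have e1 : ((toH S).obj G).hom = (AlgSp.yon S).map gh := (hSTerminal S).hom_ext _ _
  have e2 : l ≫ (Φ.obj a).P.hom = (AlgSp.yon S).map vh := (hSTerminal S).hom_ext _ _
  have e3 : IsPullback (pullback.fst ((toH S).obj G).hom (l ≫ (Φ.obj a).P.hom))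
      (pullback.snd ((toH S).obj G).hom (l ≫ (Φ.obj a).P.hom)) ((AlgSp.yon S).map gh) ((AlgSp.yon S).map vh) :=
    (IsPullback.of_hasPullback ((toH S).obj G).hom (l ≫ (Φ.obj a).P.hom)).of_iso (Iso.refl _) (Iso.refl _) (Iso.refl _)
      (Iso.refl _) (by simp) (by simp) (by simpa using e1) (by simpa using e2)
  have hsq' : IsPullback ((sG.isoIsPullback _ _ e3).hom ≫ top) ((AlgSp.yon S).map (pullback.snd gh vh))
      (Φ.obj a).π.left ((AlgSp.yon S).map k) :=
    IsPullback.of_iso hsq (sG.isoIsPullback _ _ e3).symm (Iso.refl (Φ.obj a).P.left)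
      (Iso.refl _) (Iso.refl _) (by simp) (by simp) (by simp) (by simp)
  have big := hsq'.paste_horiz (sq_base Φ π inc sq a)
  rw [← Functor.map_comp, hk] at big
  obtain ⟨τ, hτ⟩ := (AlgSp.yon S).map_surjective (((sG.isoIsPullback _ _ e3).hom ≫ top) ≫ inc a ≫ i.inv)
  have big' : IsPullback ((AlgSp.yon S).map τ) ((AlgSp.yon S).map (pullback.snd gh vh)) ((AlgSp.yon S).map w)
      ((AlgSp.yon S).map f') :=
    big.of_iso (Iso.refl _) i.symm (Iso.refl _) (Iso.refl _)
      (by simp [hτ]) (by simp) (by simp [← hi]) (by simp)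
  have sS : IsPullback τ (pullback.snd gh vh) w f' :=
    IsPullback.of_map (AlgSp.yon S) ((AlgSp.yon S).map_injective (by simpa using big'.w)) big'
  have sL := (AlgSpCov.isPullback_over_left sS).flip
  have hQ : Q (pullback.snd gh vh).left := Q.of_isPullback (AlgSpCov.isPullback_over_left s0) hG
  have e4 := IsPullback.isoPullback_inv_fst sL
  change Q (pullback.fst f'.left w.left)
  rw [← e4]
  exact (Q.cancel_left_of_respectsIso _ _).2 hQ

theorem loc_glued [IsAffineHom G.hom] [Flat G.hom] [LocallyOfFinitePresentation G.hom] [Shv P]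
    (hR : R ∈ Jq S U) : secSieve π ∈ AlgSp.J S U := by
  obtain ⟨W, w, fst, sW⟩ := ((Groth.Agent.AlgSp.isAffineMor_iff π).1 (isAffineMor_glued Φ π inc sq hR)).1 (𝟙 _)
  have := sW.isIso_fst_of_isIso
  have hw : fst ≫ π = (AlgSp.yon S).map w := sW.w.trans (Category.comp_id _)
  have : Surjective G.hom := ⟨fun s => ⟨(MonObj.one (X := G)).left.base s,
    congrArg (fun m : S ⟶ S => m.base s) (Over.w (MonObj.one (X := G)))⟩⟩
  have : Flat w.left := property_glued Φ π inc sq @Flat inferInstance hR w (asIso fst) hw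
  have : LocallyOfFinitePresentation w.left :=
    property_glued Φ π inc sq @LocallyOfFinitePresentation inferInstance hR w (asIso fst) hw
  have : Surjective w.left := property_glued Φ π inc sq @Surjective inferInstance hR w (asIso fst) hw
  exact Groth.Agent.AlgSp.mem_of_fppf w (T := secSieve π) ⟨fst, hw⟩

omit sq

theorem isStack_spQuot [IsAffineHom G.hom] [Flat G.hom] [LocallyOfFinitePresentation G.hom] :
    Stk.IsStack (Jq S) (AlgSt.SpQuotSt K ((toH S).obj G) (actH aX)) :=
  have : ∀ A : AlgSt.SpQuotObj K ((toH S).obj G) (actH aX), Shv A.P.left := shv_torsor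
  ⟨SpTors.isFibGrpd, fun U R hR => isStackFor_of_glue SpTors.isFibGrpd R (morGlue R hR)
    (objGlue hR fun Φ P π inc hP sq => loc_glued Φ π inc sq hR)⟩

section Compare

/-- An fppf torsor as an fpqc torsor. -/
def toQObj (A : AlgSt.QuotObj K G aX) : AlgSt.QuotObj Scheme.fpqcPrecoverage G aX where
  base := A.base
  P := A.P
  act := A.act
  π := A.π
  cart := A.cart
  loc := by
    obtain ⟨C, hC, h⟩ := A.loc
    exact ⟨C, Scheme.fppfPrecoverage_le_fpqcPrecoverage _ hC, h⟩
  φ := A.φ
  eqv := A.eqv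

variable (aX) in
/-- The comparison of fppf torsors and fpqc torsors. -/
def toQ : AlgSt.QuotSt K G aX ⥤ᵇ AlgSt.QuotSt Scheme.fpqcPrecoverage G aX where
  toFunctor :=
    { obj := toQObj
      map := fun f => ⟨f.base, f.top, f.eqv, f.cart, f.wφ⟩ }
  w := rfl

theorem loc_fppf [Flat G.hom] [LocallyOfFinitePresentation G.hom] (A : AlgSt.QuotObj Scheme.fpqcPrecoverage G aX) :
    NonAbH1.IsLocallyTrivialFor K (Over.mk A.π.left : Over A.base.left) := by
  have key : ∀ (Q : MorphismProperty Scheme.{u}) [Q.IsStableUnderBaseChange] [IsZariskiLocalAtTarget Q]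
      [Q.DescendsAlong AlgSpCov.Fpqc], Q G.hom → Q A.π.left := by
    intro Q _ _ _ hG
    obtain ⟨C, hC, hsec⟩ := A.loc
    refine GITLib.of_fpqc_cover A.π.left hC fun S' f hf => ?_
    obtain ⟨s, hs⟩ := hsec f hf
    have hs' : s ≫ A.π.left = f := hs
    let T : Over S := Over.mk (f ≫ A.base.hom)
    let s' : T ⟶ A.P := Over.homMk s (by rw [← Over.w A.π, reassoc_of% hs']; rfl)
    have h := ((AlgSt.isPullback_whiskerLeft (G := G) s').paste_horiz A.cart).map (Over.forget S)
    have e : (Over.forget S).map (s' ≫ A.π) = f := hs'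
    have sL : IsPullback (snd G T).left ((G ◁ s') ≫ A.act.act).left f A.π.left :=
      (e ▸ h.flip : IsPullback ((Over.forget S).map (snd G T)) ((Over.forget S).map ((G ◁ s') ≫ A.act.act)) f
        ((Over.forget S).map A.π))
    have hQ : Q (snd G T).left :=
      Q.of_isPullback (IsPullback.of_hasPullback G.hom T.hom) hG
    rw [← IsPullback.isoPullback_inv_fst sL]
    exact (Q.cancel_left_of_respectsIso _ _).2 hQ
  have : Surjective G.hom := ⟨fun s => ⟨(MonObj.one (X := G)).left.base s,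
    congrArg (fun m : S ⟶ S => m.base s) (Over.w (MonObj.one (X := G)))⟩⟩
  have : Flat A.π.left := key @Flat inferInstance
  have : LocallyOfFinitePresentation A.π.left := key @LocallyOfFinitePresentation inferInstance
  have : Surjective A.π.left := key @Surjective inferInstance
  refine ⟨Presieve.singleton A.π.left, A.π.left.singleton_mem_fppfPrecoverage, ?_⟩
  rintro S' f ⟨⟩
  exact ⟨𝟙 _, Category.id_comp _⟩

theorem isEquivOver_toQ [Flat G.hom] [LocallyOfFinitePresentation G.hom] : IsEquivOver (toQ aX) :=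
  have : (toQ aX).toFunctor.Faithful :=
    ⟨fun {A A'} f g h => AlgSt.QuotObj.hom_ext (congrArg (fun k => k.base) h) (congrArg (fun k => k.top) h)⟩
  have : (toQ aX).toFunctor.Full := ⟨fun {A A'} f => ⟨⟨f.base, f.top, f.eqv, f.cart, f.wφ⟩, rfl⟩⟩
  Groth.Agent.FibC.isEquivOver_of_fullyFaithful (toQ aX) fun A =>
    ⟨⟨A.base, A.P, A.act, A.π, A.cart, loc_fppf A, A.φ, A.eqv⟩, Iso.refl A,
      IsHomLift.id (p := (AlgSt.QuotSt Scheme.fpqcPrecoverage G aX).p) rfl⟩

/-- Quotient stacks by affine flat group schemes of finite presentation are stacks for the fpqc topology. -/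
theorem isStack_quotSt [IsAffineHom G.hom] [Flat G.hom] [LocallyOfFinitePresentation G.hom] :
    Stk.IsStack (Jq S) (AlgSt.QuotSt Scheme.fpqcPrecoverage G aX) :=
  (isStack_iff_of_isEquivOver (Jq S) isEquivOver_toQ).1
    ((isStack_iff_of_isEquivOver (Jq S) QuotBr.isEquivOver_E).2 isStack_spQuot)

end Compare

end Groth.Agent.StFib.FpqcTors
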