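import Groth.Agent.StFib.FpqcTors.Glue
import Groth.Agent.StFib.SpTorsorObj

/-!
# The glued sheaf of torsors is an fpqc sheaf
-/

set_option linter.unusedVariables false
set_option backward.isDefEq.respectTransparency false
set_option backward.isDefEq.respectTransparency.types false
set_option maxHeartbeats 1600000

universe u

open CategoryTheory CategoryTheory.Limits AlgebraicGeometry Opposite MonoidalCategory CartesianMonoidalCategory
  MonObj FibCat

namespace Groth.Agent.StFib.FpqcTors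

open SpTors (Cov Sec secPsh piA top_piA secSh secEquiv)
open Groth.Agent.AlgSp (yEquiv yEquiv_map yEquiv_comp hom_ext_yon)

variable {S : Scheme.{u}} {U : Over S} {R : Sieve U}

section

variable (C : Cov R)

theorem cov_hom_ext (hR : R ∈ Jq S U) {Y : AlgSp.Sp S} [Shv Y] {k k' : C.P ⟶ Y} (h : ∀ a, C.inc a ≫ k = C.inc a ≫ k') :
    k = k' := by
  refine hom_ext_yon fun V p => ?_
  obtain ⟨t, ht⟩ := (AlgSp.yon S).map_surjective (p ≫ C.π)
  apply FpqcTors.ext_of_cover ((Jq S).pullback_stable t hR)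
  intro W f hf
  obtain ⟨a, -, l, hl⟩ := C.exists_lift_mem (f ≫ t) hf ((AlgSp.yon S).map f ≫ p)
    (by rw [Category.assoc, ← ht, Functor.map_comp])
  rw [← Category.assoc, ← Category.assoc, ← hl, Category.assoc, Category.assoc, h]

theorem cov_exists_desc (hR : R ∈ Jq S U) {Y : AlgSp.Sp S} [Shv Y] (h : ∀ a, C.Pa a ⟶ Y)
    (hn : ∀ {a b : (Stk.sieveCat R).obj} (φ : a ⟶ b), C.T φ ≫ h b = h a) :
    ∃ k : C.P ⟶ Y, ∀ a, C.inc a ≫ k = h a := by
  have hval : ∀ (V : Over S) (p : (AlgSp.yon S).obj V ⟶ C.P), ∃ q : (AlgSp.yon S).obj V ⟶ Y,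
      ∀ {W : Over S} (f : W ⟶ V) (a : (Stk.sieveCat R).obj) (l : (AlgSp.yon S).obj W ⟶ C.Pa a),
        l ≫ C.inc a = (AlgSp.yon S).map f ≫ p → (AlgSp.yon S).map f ≫ q = l ≫ h a := by
    intro V p
    obtain ⟨t, ht⟩ := (AlgSp.yon S).map_surjective (p ≫ C.π)
    let c : ∀ {W : Over S} (f : W ⟶ V), R (f ≫ t) → (Stk.sieveCat R).obj := fun f hf => ⟨Over.mk (f ≫ t), hf⟩
    have hlift : ∀ {W : Over S} (f : W ⟶ V) (hf : R (f ≫ t)), ∃ l : (AlgSp.yon S).obj W ⟶ C.Pa (c f hf),
        l ≫ C.inc _ = (AlgSp.yon S).map f ≫ p ∧ l ≫ C.πa _ = 𝟙 _ := fun f hf => by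
      obtain ⟨l, h1, h2⟩ := (C.sq (c f hf)).exists_lift ((AlgSp.yon S).map f ≫ p) (𝟙 _) (by
        rw [Category.assoc, ← ht, ← Functor.map_comp]; exact (Category.id_comp _).symm)
      exact ⟨l, h1, h2⟩
    choose l hl hlπ using @hlift
    have key : ∀ {W : Over S} (f : W ⟶ V) (hf : R (f ≫ t)) (a : (Stk.sieveCat R).obj)
        (m : (AlgSp.yon S).obj W ⟶ C.Pa a), m ≫ C.inc a = (AlgSp.yon S).map f ≫ p → l f hf ≫ h _ = m ≫ h a := by
      intro W f hf a m hm
      obtain ⟨k, hk⟩ := (AlgSp.yon S).map_surjective (m ≫ C.πa a)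
      have hka : k ≫ a.obj.hom = f ≫ t := (AlgSp.yon S).map_injective (by
        rw [Functor.map_comp, hk, Category.assoc, ← (C.sq a).w, reassoc_of% hm, ← ht, ← Functor.map_comp])
      let φ : c f hf ⟶ a := ObjectProperty.homMk (Over.homMk k hka)
      have : l f hf ≫ C.T φ = m := (C.sq a).hom_ext (by rw [Category.assoc, C.hT, hl, hm])
        (by rw [Category.assoc, C.hTπ, reassoc_of% (hlπ f hf), ← hk]; rfl)
      rw [← this, Category.assoc, hn]
    obtain ⟨q, hq⟩ := FpqcTors.exists_glue ((Jq S).pullback_stable t hR) (fun W f hf => l f hf ≫ h _)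
      (fun W W' g f hf => by
        rw [← Category.assoc]
        exact (key (g ≫ f) (by rw [Category.assoc]; exact R.downward_closed hf g) _ _
          (by rw [Category.assoc, hl, ← Category.assoc, ← Functor.map_comp])).symm)
    refine ⟨q, fun {W} f a m hm => ?_⟩
    have hft : R (f ≫ t) := by
      obtain ⟨k, hk⟩ := (AlgSp.yon S).map_surjective (m ≫ C.πa a)
      have hka : k ≫ a.obj.hom = f ≫ t := (AlgSp.yon S).map_injective (by
        rw [Functor.map_comp, hk, Category.assoc, ← (C.sq a).w, reassoc_of% hm, ← ht, ← Functor.map_comp])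
      exact hka ▸ R.downward_closed a.property k
    exact (hq f hft).trans (key f hft a m hm)
  choose k₀ hk₀ using hval
  obtain ⟨k, hk⟩ := Glue.exists_hom k₀ (fun {V W} g p => by
    obtain ⟨t, ht⟩ := (AlgSp.yon S).map_surjective (p ≫ C.π)
    apply FpqcTors.ext_of_cover ((Jq S).pullback_stable (g ≫ t) hR)
    intro W' f hf
    obtain ⟨a, -, l, hl⟩ := C.exists_lift_mem (f ≫ g ≫ t) hf ((AlgSp.yon S).map f ≫ (AlgSp.yon S).map g ≫ p)
      (by simp only [Category.assoc, ← ht, Functor.map_comp])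
    rw [hk₀ W _ f a l hl, ← Category.assoc, ← Functor.map_comp]
    exact (hk₀ V p (f ≫ g) a l (by rw [hl, Functor.map_comp, Category.assoc])).symm)
  refine ⟨k, fun a => hom_ext_yon fun V m => ?_⟩
  have := hk₀ V (m ≫ C.inc a) (𝟙 V) a m (by rw [CategoryTheory.Functor.map_id, Category.id_comp])
  rw [← Category.assoc, hk, ← this, CategoryTheory.Functor.map_id, Category.id_comp]

end

section Sheaf

variable {B : AlgSp.Sp S} {G : Over B} [GrpObj G] {X : Over B} {aX : AlgSp.GAction G X}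

local notation "K" => Scheme.fppfPrecoverage

variable (Φ : Stk.sieveCat R ⥤ᵇ AlgSt.SpQuotSt K G aX)

theorem isSheaf_secPsh [∀ A : AlgSt.SpQuotObj K G aX, Shv A.P.left] : Presieve.IsSheaf (Jq S) (secPsh Φ) := by
  intro V T hT fam hfam
  rw [Presieve.compatible_iff_sieveCompatible] at hfam
  have hc : ∀ {W W' : Over S} (g : W' ⟶ W) (f : W ⟶ V) (hf : T f),
      fam (g ≫ f) (T.downward_closed hf g) = Sec.res g (fam f hf) := fun g f hf => hfam f g hf
  obtain ⟨tm, htm⟩ := FpqcTors.exists_glue hT (X := (AlgSp.yon S).obj U) (fun W f hf => (AlgSp.yon S).map (fam f hf).t)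
    (fun W W' g f hf => by rw [← Functor.map_comp, hc g f hf]; rfl)
  obtain ⟨t, rfl⟩ := (AlgSp.yon S).map_surjective tm
  have ht : ∀ {W : Over S} (f : W ⟶ V) (hf : T f), f ≫ t = (fam f hf).t := fun f hf =>
    (AlgSp.yon S).map_injective ((Functor.map_comp _ _ _).trans (htm f hf))
  -- restricting the wanted section at one member
  let obj : ∀ (a : (Stk.sieveCat R).obj) {W : Over S} (f : W ⟶ a.obj.left), (Stk.sieveCat R).obj :=
    fun a {W} f => ⟨Over.mk (f ≫ a.obj.hom), R.downward_closed a.property f⟩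
  let rs : ∀ (a : (Stk.sieveCat R).obj) {W : Over S} (f : W ⟶ a.obj.left), obj a f ⟶ a :=
    fun a {W} f => ObjectProperty.homMk (Over.homMk f rfl)
  have hex : ∀ (a : (Stk.sieveCat R).obj) (k : a.obj.left ⟶ V) (h : k ≫ t = a.obj.hom),
      ∃ m : (AlgSp.yon S).obj a.obj.left ⟶ (Φ.obj a).P.left, ∀ {W : Over S} (f : W ⟶ a.obj.left) (hf : T (f ≫ k)) (h'),
        (AlgSp.yon S).map f ≫ m = (fam (f ≫ k) hf).s (obj a f) (𝟙 W) h' ≫ (Φ.map (rs a f)).top.left := by
    intro a k h
    have h' : ∀ {W : Over S} (f : W ⟶ a.obj.left) (hf : T (f ≫ k)), 𝟙 W ≫ (fam (f ≫ k) hf).t = (obj a f).obj.hom :=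
      fun f hf => by rw [Category.id_comp, ← ht, Category.assoc, h]; rfl
    obtain ⟨m, hm⟩ := FpqcTors.exists_glue ((Jq S).pullback_stable k hT)
      (fun W f hf => (fam (f ≫ k) hf).s (obj a f) (𝟙 W) (h' f hf) ≫ (Φ.map (rs a f)).top.left)
      (fun W W' g f hf => by
        let ψ : obj a (g ≫ f) ⟶ obj a f := ObjectProperty.homMk (Over.homMk g (Category.assoc _ _ _).symm)
        have hψ : rs a (g ≫ f) = ψ ≫ rs a f := ObjectProperty.hom_ext _ (Over.OverMorphism.ext rfl)
        have e1 : (g ≫ f) ≫ k = g ≫ f ≫ k := Category.assoc _ _ _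
        have e2 : ∀ {k₁ : W' ⟶ V} (e : k₁ = g ≫ f ≫ k) (h₁ : T k₁) (h₂),
            (fam k₁ h₁).s (obj a (g ≫ f)) (𝟙 W') h₂ =
              (Sec.res g (fam (f ≫ k) hf)).s (obj a (g ≫ f)) (𝟙 W') (by
                subst e; rw [← hc g (f ≫ k) hf]; exact h₂) := by
          rintro _ rfl h₁ h₂
          have := hc g (f ≫ k) hf
          congr 1
        rw [e2 e1, hψ, Φ.toFunctor.map_comp, AlgSt.SpQuotObj.comp_top, Over.comp_left, ← Category.assoc,
          ← Category.assoc]
        congr 1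
        exact ((fam (f ≫ k) hf).nat ψ (𝟙 W) (h' f hf) (by
          refine (congrArg (· ≫ (fam (f ≫ k) hf).t) (Category.comp_id g)).trans ?_
          rw [← ht, Category.assoc, h]; exact (Category.assoc _ _ _).symm)).symm.trans
          (congrArg (· ≫ _) ((fam (f ≫ k) hf).s_congr _ ((Category.comp_id _).trans (Category.id_comp g).symm) _ _)))
    exact ⟨m, fun f hf _ => hm f hf⟩
  choose s hs using hex
  have hside : ∀ (a : (Stk.sieveCat R).obj) (k : a.obj.left ⟶ V) (h : k ≫ t = a.obj.hom) {W : Over S}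
      (f : W ⟶ a.obj.left) (hf : T (f ≫ k)), 𝟙 W ≫ (fam (f ≫ k) hf).t = (obj a f).obj.hom :=
    fun a k h W f hf => by rw [Category.id_comp, ← ht, Category.assoc, h]; rfl
  let x : Sec Φ V :=
    { t := t
      s := s
      hπ := fun a k h => by
        apply FpqcTors.ext_of_cover ((Jq S).pullback_stable k hT)
        intro W f hf
        rw [← Category.assoc, hs a k h f hf (hside a k h f hf), Category.assoc, top_piA,
          reassoc_of% ((fam (f ≫ k) hf).hπ _ _ _), Category.comp_id]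
        rfl
      nat := fun {a b} φ k h h' => by
        apply FpqcTors.ext_of_cover ((Jq S).pullback_stable (φ.hom.left ≫ k) hT)
        intro W f hf
        have hf' : T ((f ≫ φ.hom.left) ≫ k) := by rw [Category.assoc]; exact hf
        refine (Category.assoc _ _ _).symm.trans ((congrArg (· ≫ (Φ.map φ).top.left)
          (hs a _ h' f hf (hside a _ h' f hf))).trans ?_)
        refine Eq.trans ?_ ((congrArg (· ≫ s b k h) ((AlgSp.yon S).map_comp f φ.hom.left)).trans (Category.assoc _ _ _))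
        rw [hs b k h _ hf' (hside b k h _ hf'), Category.assoc, ← Over.comp_left, ← AlgSt.SpQuotObj.comp_top,
          ← Φ.toFunctor.map_comp]
        have ew : f ≫ φ.hom.left ≫ k = (f ≫ φ.hom.left) ≫ k := (Category.assoc _ _ _).symm
        let ψ : obj a f ⟶ obj b (f ≫ φ.hom.left) := ObjectProperty.homMk (Over.homMk (𝟙 W) (by
          change 𝟙 W ≫ (f ≫ φ.hom.left) ≫ b.obj.hom = f ≫ a.obj.hom
          rw [Category.id_comp, Category.assoc, Over.w φ.hom]))
        have hψ : rs a f ≫ φ = ψ ≫ rs b (f ≫ φ.hom.left) :=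
          ObjectProperty.hom_ext _ (Over.OverMorphism.ext (Category.id_comp _).symm)
        rw [hψ, Φ.toFunctor.map_comp, AlgSt.SpQuotObj.comp_top, Over.comp_left, ← Category.assoc]
        congr 1
        have key : ∀ (y : Sec Φ W) (hy : 𝟙 W ≫ y.t = (obj a f).obj.hom) (hy'),
            y.s (obj a f) (𝟙 W) hy ≫ (Φ.map ψ).top.left = y.s (obj b (f ≫ φ.hom.left)) (𝟙 W) hy' := by
          intro y hy hy'
          refine (congrArg (· ≫ (Φ.map ψ).top.left) (y.s_congr _ (Category.comp_id _).symm _ ?_)).trans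
            ((y.nat ψ (𝟙 W) hy' ?_).trans ?_)
          · exact (congrArg (· ≫ y.t) (Category.comp_id _)).trans hy
          · exact (congrArg (· ≫ y.t) (Category.comp_id _)).trans hy
          · exact (congrArg (· ≫ _) ((AlgSp.yon S).map_id W)).trans (Category.id_comp _)
        have e3 : ∀ {k₁ k₂ : W ⟶ V} (e : k₁ = k₂) (h₁ : T k₁) (h₂ : T k₂), fam k₁ h₁ = fam k₂ h₂ := by
          rintro _ _ rfl h₁ h₂; rfl
        have := key (fam _ hf) (hside a _ h' f hf)
          (by rw [e3 ew hf hf']; exact hside b k h _ hf')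
        refine this.trans ?_
        congr 1 }
  refine ⟨x, fun W f hf => Sec.ext' (ht f hf) fun a k h h' => ?_, fun y hy => ?_⟩
  · apply FpqcTors.ext_of_cover ((Jq S).top_mem a.obj.left)
    intro W' f' _
    have hk : T (f' ≫ k ≫ f) := by rw [← Category.assoc]; exact T.downward_closed hf _
    change (AlgSp.yon S).map f' ≫ s a (k ≫ f) _ = _
    rw [hs a _ _ f' hk (hside a _ (by rw [Category.assoc, ht f hf]; exact h') f' hk)]
    have e3 : ∀ {k₁ : W' ⟶ V} (e : k₁ = (f' ≫ k) ≫ f) (h₁ : T k₁) (h₂),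
        (fam k₁ h₁).s (obj a f') (𝟙 W') h₂ = (fam f hf).s (obj a f') (f' ≫ k) (by
          subst e; rw [hc (f' ≫ k) f hf] at h₂; exact (Category.assoc _ _ _).trans ((Category.id_comp _).symm.trans h₂)) := by
      rintro _ rfl h₁ h₂
      exact (Sec.s_eq (hc (f' ≫ k) f hf) _ _ _).trans ((fam f hf).s_congr _ (Category.id_comp _) _ _)
    rw [e3 (Category.assoc _ _ _).symm]
    exact (fam f hf).nat (rs a f') k h' _
  · refine Sec.ext' ?_ fun a k h h' => ?_
    · apply (AlgSp.yon S).map_injective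
      apply FpqcTors.ext_of_cover hT
      intro W f hf
      rw [htm f hf, ← Functor.map_comp, ← hy f hf]
      rfl
    · apply FpqcTors.ext_of_cover ((Jq S).pullback_stable k hT)
      intro W f hf
      change _ = (AlgSp.yon S).map f ≫ s a k h'
      rw [hs a k h' f hf (hside a k h' f hf)]
      have e4 : ∀ (z : Sec Φ W) (hz : 𝟙 W ≫ z.t = (obj a f).obj.hom), z = Sec.res (f ≫ k) y →
          (AlgSp.yon S).map f ≫ y.s a k h = z.s (obj a f) (𝟙 W) hz ≫ (Φ.map (rs a f)).top.left := by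
        rintro z hz rfl
        refine ((y.nat (rs a f) k h (by rw [Category.assoc, h]; rfl)).symm).trans ?_
        exact congrArg (· ≫ _) (y.s_congr _ (Category.id_comp _).symm _ _)
      exact e4 _ _ (hy (f ≫ k) hf).symm

unseal Groth.Agent.StFib.SpTors.secSh in
instance shv_secSh [∀ A : AlgSt.SpQuotObj K G aX, Shv A.P.left] : Shv (secSh Φ) := ⟨isSheaf_secPsh Φ⟩

end Sheaf

end Groth.Agent.StFib.FpqcTors
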